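import Groth.Agent.Lib.Helper12.HenselIntegralDomain
import Groth.Agent.Lib.Helper18.TameDiff.Tame
import Mathlib.RingTheory.Ideal.Norm.RelNorm
import Mathlib.RingTheory.RamificationInertia.Basic

/-! # Finite extensions of a complete discrete valuation ring -/

set_option autoImplicit false
universe u

attribute [local instance] FractionRing.liftAlgebra FractionRing.isScalarTower_liftAlgebra

namespace Groth.Agent.Lib.Helper18.CDVR

open IsLocalRing nonZeroDivisors

/-- A local ring complete along its maximal ideal is henselian. -/
theorem henselianLocalRing_of_complete (A : Type*) [CommRing A] [IsLocalRing A]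
    [IsAdicComplete (maximalIdeal A) A] : HenselianLocalRing A :=
  Groth.Agent.Lib.Helper12.PairUnique.henselianLocalRing_of_henselianRing inferInstance

/-- A domain finite over a complete local ring is local. -/
theorem isLocalRing_of_complete (A B : Type u) [CommRing A] [IsLocalRing A]
    [IsAdicComplete (maximalIdeal A) A] [CommRing B] [IsDomain B] [Algebra A B]
    [Module.Finite A B] : IsLocalRing B := by
  haveI := henselianLocalRing_of_complete A
  exact Groth.Agent.Lib.Helper12.isLocalRing_of_finite_of_isDomain A B

section

variable (A B : Type u) [CommRing A] [IsDomain A] [IsDiscreteValuationRing A]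
  [CommRing B] [IsDedekindDomain B] [Algebra A B] [Module.Finite A B] [Module.IsTorsionFree A B]

include A in
theorem not_isField_of_finite : ¬ IsField B := by
  intro h
  haveI : FaithfulSMul A B := inferInstance
  have : IsField A := isField_of_isIntegral_of_isField
    (FaithfulSMul.algebraMap_injective A B) h
  exact IsDiscreteValuationRing.not_isField A this

include A in
/-- A local Dedekind domain finite torsion-free over a DVR is a DVR. -/
theorem isDiscreteValuationRing_of_isLocalRing [IsLocalRing B] : IsDiscreteValuationRing B := by
  have h := (IsDiscreteValuationRing.TFAE B (not_isField_of_finite A B)).out 0 2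
  exact h.mpr inferInstance

end

end Groth.Agent.Lib.Helper18.CDVR
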