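import Groth.Agent.Lib.Helper18.CDVR.Local

/-! # Valuation of the norm over a complete discrete valuation ring -/

set_option autoImplicit false
universe u

attribute [local instance] FractionRing.liftAlgebra FractionRing.isScalarTower_liftAlgebra

namespace Groth.Agent.Lib.Helper18.CDVR

open IsLocalRing nonZeroDivisors

section

variable (A B : Type u) [CommRing A] [IsDomain A] [IsDiscreteValuationRing A]
  [CommRing B] [IsDomain B] [IsDiscreteValuationRing B] [Algebra A B] [Module.Finite A B]
  [Module.IsTorsionFree A B]

/-- `e * f = n` for a finite extension of DVRs. -/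
theorem ramificationIdx_mul_inertiaDeg :
    (maximalIdeal B).ramificationIdx A * (maximalIdeal B).inertiaDeg A = Module.finrank A B := by
  classical
  have hp : maximalIdeal A ≠ ⊥ := IsDiscreteValuationRing.not_a_field A
  haveI : (maximalIdeal B).LiesOver (maximalIdeal A) :=
    ⟨(IsLocalRing.maximalIdeal_comap (algebraMap A B)).symm⟩
  letI : Unique ((maximalIdeal A).primesOver B) :=
    { default := ⟨maximalIdeal B, inferInstance, inferInstance⟩
      uniq := by
        rintro ⟨q, hq, hqo⟩
        apply Subtype.ext
        show q = maximalIdeal B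
        have hq0 : q ≠ ⊥ := by
          rintro rfl
          have := hqo.over
          rw [Ideal.under_bot] at this
          exact hp this
        haveI := hq
        exact IsLocalRing.eq_maximalIdeal (hq.isMaximal hq0) }
  have h := Ideal.sum_ramification_inertia_eq_finrank (maximalIdeal A) B
  rw [Fintype.sum_unique] at h
  exact h

/-- The relative norm of the maximal ideal is `p ^ f`. -/
theorem relNorm_maximalIdeal :
    Ideal.relNorm A (maximalIdeal B) = maximalIdeal A ^ (maximalIdeal B).inertiaDeg A := by
  have hp : maximalIdeal A ≠ ⊥ := IsDiscreteValuationRing.not_a_field A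
  haveI : (maximalIdeal B).LiesOver (maximalIdeal A) :=
    ⟨(IsLocalRing.maximalIdeal_comap (algebraMap A B)).symm⟩
  obtain ⟨hmap, he0⟩ := Groth.Agent.Lib.Helper18.TameDiff.map_maximalIdeal_eq_pow A B
  obtain ⟨s, hs⟩ := Ideal.exists_relNorm_eq_pow_of_isPrime (maximalIdeal B) (maximalIdeal A)
  have h1 : Ideal.relNorm A ((maximalIdeal A).map (algebraMap A B)) =
      maximalIdeal A ^ Module.finrank A B := Ideal.relNorm_algebraMap B _
  rw [hmap, map_pow, hs, ← pow_mul, ← ramificationIdx_mul_inertiaDeg A B] at h1
  have hinj : Function.Injective (fun n : ℕ => maximalIdeal A ^ n) := by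
    intro m n hmn
    have h1 := (Groth.Agent.Lib.Helper18.TameDiff.maxIdeal_pow_dvd_pow_iff (B := A) m n).1
      (dvd_of_eq hmn)
    have h2 := (Groth.Agent.Lib.Helper18.TameDiff.maxIdeal_pow_dvd_pow_iff (B := A) n m).1
      (dvd_of_eq hmn.symm)
    exact le_antisymm h1 h2
  have h2 : s * (maximalIdeal B).ramificationIdx A =
      (maximalIdeal B).ramificationIdx A * (maximalIdeal B).inertiaDeg A := hinj h1
  have h3 : s = (maximalIdeal B).inertiaDeg A := by
    rw [mul_comm] at h2
    exact Nat.eq_of_mul_eq_mul_left (Nat.pos_of_ne_zero he0) h2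
  rw [hs, h3]

/-- `v(N(x)) = f * w(x)` for a finite extension of DVRs. -/
theorem emultiplicity_intNorm (x : B) (hx : x ≠ 0) :
    emultiplicity (maximalIdeal A) (Ideal.span {Algebra.intNorm A B x}) =
      ((maximalIdeal B).inertiaDeg A : ℕ∞) * emultiplicity (maximalIdeal B) (Ideal.span {x}) := by
  obtain ⟨n, hn⟩ := Groth.Agent.Lib.Helper18.TameDiff.exists_pow_eq (Ideal.span {x})
    (by simpa using hx)
  have hA : ∀ k : ℕ, emultiplicity (maximalIdeal A) (maximalIdeal A ^ k) = k := fun k =>
    emultiplicity_pow_self (IsDiscreteValuationRing.not_a_field A)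
      (by rw [Ideal.isUnit_iff]; exact (maximalIdeal.isMaximal A).ne_top) k
  have hB : ∀ k : ℕ, emultiplicity (maximalIdeal B) (maximalIdeal B ^ k) = k := fun k =>
    emultiplicity_pow_self (IsDiscreteValuationRing.not_a_field B)
      (by rw [Ideal.isUnit_iff]; exact (maximalIdeal.isMaximal B).ne_top) k
  rw [← Ideal.relNorm_singleton, hn, map_pow, relNorm_maximalIdeal, ← pow_mul, hA, hB]
  push_cast
  rfl

end

end Groth.Agent.Lib.Helper18.CDVR
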