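import Groth.Agent.Lib.Helper18.CDVR.Norm
import Groth.Agent.Lib.Helper12.HenselIntegralLocal2
import Mathlib.RingTheory.Polynomial.Eisenstein.Basic
import Mathlib.FieldTheory.Minpoly.IsIntegrallyClosed

/-! # Tame totally ramified extensions of a (henselian) DVR are Kummer: `u ^ m ∈ A` -/

set_option autoImplicit false
universe u

namespace Groth.Agent.Lib.Helper18.CDVR

open IsLocalRing Polynomial

section

variable (A B : Type u) [CommRing A] [IsDomain A] [IsDiscreteValuationRing A]
  [CommRing B] [IsDomain B] [IsDiscreteValuationRing B] [Algebra A B] [Module.Finite A B]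
  [Module.IsTorsionFree A B]

/-- If `f = 1` then every element of `B` is congruent to an element of `A` modulo `m_B`. -/
theorem exists_sub_mem_of_inertiaDeg_eq_one (hf : (maximalIdeal B).inertiaDeg A = 1) (w : B) :
    ∃ a : A, w - algebraMap A B a ∈ maximalIdeal B := by
  haveI : (maximalIdeal B).LiesOver (maximalIdeal A) :=
    ⟨(IsLocalRing.maximalIdeal_comap (algebraMap A B)).symm⟩
  rw [Ideal.inertiaDeg_eq_of_isMaximal (maximalIdeal A) (maximalIdeal B)] at hf
  letI : Field (A ⧸ maximalIdeal A) := Ideal.Quotient.field _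
  letI : Field (B ⧸ maximalIdeal B) := Ideal.Quotient.field _
  obtain ⟨c, hc⟩ := (finrank_eq_one_iff_of_nonzero' (1 : B ⧸ maximalIdeal B) one_ne_zero).1 hf
    (Ideal.Quotient.mk _ w)
  obtain ⟨a, rfl⟩ := Ideal.Quotient.mk_surjective c
  refine ⟨a, ?_⟩
  rw [Algebra.smul_def, mul_one, Ideal.Quotient.algebraMap_mk_of_liesOver] at hc
  rw [← Ideal.Quotient.eq]
  exact hc.symm

/-- `X ^ m - c` with `c` a uniformizer is the minimal polynomial of any of its roots. -/
theorem natDegree_minpoly_of_pow_eq {m : ℕ} (hm : 0 < m) {c : A} (hc : Irreducible c) {u : B}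
    (hu : u ^ m = algebraMap A B c) : (minpoly A u).natDegree = m := by
  set P : A[X] := X ^ m - C c with hP
  have hPm : P.Monic := monic_X_pow_sub_C c hm.ne'
  have hPd : P.natDegree = m := natDegree_X_pow_sub_C
  have hmax : maximalIdeal A = Ideal.span {c} := hc.maximalIdeal_eq
  have hE : P.IsEisensteinAt (maximalIdeal A) := by
    refine ⟨?_, ?_, ?_⟩
    · rw [hPm.leadingCoeff]
      exact fun h => (maximalIdeal.isMaximal A).ne_top ((Ideal.eq_top_iff_one _).2 h)
    · intro n hn
      rw [hPd] at hn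
      rw [hP, coeff_sub, coeff_X_pow, if_neg hn.ne, zero_sub, coeff_C]
      split_ifs
      · rw [hmax]
        exact neg_mem (Ideal.mem_span_singleton_self c)
      · simp
    · rw [hP, coeff_sub, coeff_X_pow, if_neg hm.ne, zero_sub, coeff_C_zero, hmax,
        Ideal.span_singleton_pow, Ideal.mem_span_singleton, dvd_neg]
      intro h
      obtain ⟨d, hd⟩ := h
      have h1 : c * 1 = c * (c * d) := by rw [mul_one]; exact hd.trans (by ring)
      have h2 := mul_left_cancel₀ hc.ne_zero h1
      exact hc.not_isUnit (IsUnit.of_mul_eq_one d h2.symm)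
  have hirr : Irreducible P :=
    hE.irreducible (maximalIdeal.isMaximal A).isPrime hPm.isPrimitive (by rw [hPd]; exact hm)
  have hint : IsIntegral A u := Algebra.IsIntegral.isIntegral u
  have hroot : aeval u P = 0 := by
    rw [hP, map_sub, map_pow, aeval_X, aeval_C, hu, sub_self]
  have hdvd : minpoly A u ∣ P := minpoly.isIntegrallyClosed_dvd hint hroot
  have hassoc : Associated (minpoly A u) P :=
    ((hirr.dvd_iff.1 hdvd).resolve_left (minpoly.not_isUnit A u)).symm
  rw [eq_of_monic_of_associated (minpoly.monic hint) hPm hassoc, hPd]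

end

section

variable (A B : Type u) [CommRing A] [IsDomain A] [IsDiscreteValuationRing A]
  [CommRing B] [IsDomain B] [IsDiscreteValuationRing B] [HenselianLocalRing B]
  [Algebra A B] [Module.Finite A B] [Module.IsTorsionFree A B]

/-- A tame totally ramified extension of DVRs with `B` henselian has a uniformizer `u` with
`u ^ m` a uniformizer of `A`. -/
theorem exists_uniformizer_pow_eq
    (hram : (maximalIdeal B).ramificationIdx A = Module.finrank A B)
    (hm : IsUnit ((Module.finrank A B : ℕ) : A)) :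
    ∃ (u : B) (c : A), Irreducible u ∧ Irreducible c ∧
      u ^ Module.finrank A B = algebraMap A B c := by
  set m := Module.finrank A B with hmdef
  obtain ⟨hmap, he0⟩ := Groth.Agent.Lib.Helper18.TameDiff.map_maximalIdeal_eq_pow A B
  rw [hram] at hmap he0
  have hm0 : 0 < m := Nat.pos_of_ne_zero he0
  have hf : (maximalIdeal B).inertiaDeg A = 1 := by
    have h := ramificationIdx_mul_inertiaDeg A B
    rw [hram] at h
    have : m * (maximalIdeal B).inertiaDeg A = m * 1 := by rw [h, mul_one]
    exact Nat.eq_of_mul_eq_mul_left hm0 this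
  obtain ⟨π, hπ⟩ := IsDiscreteValuationRing.exists_irreducible A
  obtain ⟨ϖ, hϖ⟩ := IsDiscreteValuationRing.exists_irreducible B
  rw [hπ.maximalIdeal_eq, hϖ.maximalIdeal_eq, Ideal.map_span, Set.image_singleton,
    Ideal.span_singleton_pow, Ideal.span_singleton_eq_span_singleton] at hmap
  obtain ⟨w, hw⟩ := hmap.symm
  -- `ϖ ^ m * w = algebraMap π`
  obtain ⟨a, ha⟩ := exists_sub_mem_of_inertiaDeg_eq_one A B hf (w : B)
  have hau' : IsUnit (algebraMap A B a) := by
    by_contra hnu
    have h1 : algebraMap A B a ∈ maximalIdeal B := (IsLocalRing.mem_maximalIdeal _).2 hnu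
    have h2 : (w : B) ∈ maximalIdeal B := by
      have := add_mem ha h1
      rwa [sub_add_cancel] at this
    exact (IsLocalRing.mem_maximalIdeal _).1 h2 w.isUnit
  have hau : IsUnit a := (isUnit_map_iff (algebraMap A B) a).1 hau'
  obtain ⟨a', rfl⟩ := hau
  set w₁ : B := (w : B) * algebraMap A B ((a'⁻¹ : Aˣ) : A) with hw₁
  have hw₁1 : 1 - w₁ ∈ maximalIdeal B := by
    have : 1 - w₁ = -(((w : B) - algebraMap A B a') * algebraMap A B ((a'⁻¹ : Aˣ) : A)) := by
      rw [hw₁, sub_mul, ← map_mul, Units.mul_inv, map_one]; ring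
    rw [this]
    exact neg_mem (Ideal.mul_mem_right _ _ ha)
  -- Hensel
  have hmB : IsUnit ((m : ℕ) : B) := by
    have := hm.map (algebraMap A B)
    rwa [map_natCast] at this
  obtain ⟨v, hv, hv1⟩ := HenselianLocalRing.is_henselian (X ^ m - C w₁ : B[X])
    (monic_X_pow_sub_C w₁ hm0.ne') 1
    (by rw [eval_sub, eval_pow, eval_X, eval_C, one_pow]; exact hw₁1)
    (by
      rw [derivative_sub, derivative_C, sub_zero, derivative_X_pow, eval_mul, eval_pow, eval_X,
        one_pow, mul_one, eval_C]
      exact hmB)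
  rw [IsRoot.def, eval_sub, eval_pow, eval_X, eval_C, sub_eq_zero] at hv
  have hvu : IsUnit v := by
    by_contra hnu
    have h1 : v ∈ maximalIdeal B := (IsLocalRing.mem_maximalIdeal _).2 hnu
    have h2 : (1 : B) ∈ maximalIdeal B := by
      have := sub_mem h1 hv1
      rwa [sub_sub_cancel] at this
    exact (maximalIdeal.isMaximal B).ne_top ((Ideal.eq_top_iff_one _).2 h2)
  refine ⟨ϖ * v, π * ((a'⁻¹ : Aˣ) : A), ?_, ?_, ?_⟩
  · exact (irreducible_mul_isUnit hvu).2 hϖ
  · exact (irreducible_mul_isUnit (Units.isUnit _)).2 hπ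
  · rw [mul_pow, hv, hw₁, map_mul, ← hw]
    ring

end

end Groth.Agent.Lib.Helper18.CDVR
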