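import Groth.Agent.Lib.Helper18.CDVR.Local
import Groth.Agent.Lib.Helper12.HenselIntegralLocal2

/-! # Coefficient field of a finite extension of a complete DVR with perfect coefficient field -/

set_option autoImplicit false
universe u

namespace Groth.Agent.Lib.Helper18.CDVR

open IsLocalRing Polynomial

section

variable (K A B : Type u) [Field K] [CommRing A] [IsLocalRing A]
  [Algebra K A] (hK : Function.Bijective ((IsLocalRing.residue A).comp (algebraMap K A)))
  [CommRing B] [IsLocalRing B] [Algebra A B] [Algebra.IsIntegral A B]
  [Algebra K B] [IsScalarTower K A B] [IsLocalHom (algebraMap A B)]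

include hK in
/-- The residue field of `B` is integral over the coefficient field `K` of `A`. -/
theorem isIntegral_residue (b : B) :
    IsIntegral K (Ideal.Quotient.mk (maximalIdeal B) b) := by
  let e : K ≃+* ResidueField A := RingEquiv.ofBijective _ hK
  let φ : A →+* K := (e.symm : ResidueField A →+* K).comp (IsLocalRing.residue A)
  have hφ : ∀ a : A, a - algebraMap K A (φ a) ∈ maximalIdeal A := by
    intro a
    rw [← Ideal.Quotient.eq]
    have : IsLocalRing.residue A (algebraMap K A (φ a)) = IsLocalRing.residue A a := by
      have := e.apply_symm_apply (IsLocalRing.residue A a)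
      exact this
    exact this.symm
  refine IsIntegral.map_of_comp_eq φ (Ideal.Quotient.mk (maximalIdeal B)) ?_
    (Algebra.IsIntegral.isIntegral (R := A) b)
  ext a
  simp only [RingHom.comp_apply]
  rw [IsScalarTower.algebraMap_apply K B (B ⧸ maximalIdeal B), Ideal.Quotient.algebraMap_eq,
    IsScalarTower.algebraMap_apply K A B, eq_comm, Ideal.Quotient.eq, ← map_sub]
  have := hφ a
  rw [← IsLocalRing.maximalIdeal_comap (algebraMap A B)] at this
  exact this

end

section

variable (K A B : Type u) [Field K] [PerfectField K] [CommRing A] [IsLocalRing A]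
  [Algebra K A] (hK : Function.Bijective ((IsLocalRing.residue A).comp (algebraMap K A)))
  [CommRing B] [IsDomain B] [HenselianLocalRing B] [Algebra A B] [Algebra.IsIntegral A B]
  [Algebra K B] [IsScalarTower K A B] [IsLocalHom (algebraMap A B)]

include hK in
theorem exists_algebraic_lift (b : B) :
    ∃ c : B, IsAlgebraic K c ∧ b - c ∈ maximalIdeal B := by
  letI : Field (B ⧸ maximalIdeal B) := Ideal.Quotient.field _
  set bb : B ⧸ maximalIdeal B := Ideal.Quotient.mk _ b with hbb
  have hint : IsIntegral K bb := isIntegral_residue K A B hK b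
  set g := minpoly K bb with hg
  have hirr : Irreducible g := minpoly.irreducible hint
  have hsep : g.Separable := PerfectField.separable_of_irreducible hirr
  have hmonic : g.Monic := minpoly.monic hint
  have hmk : ∀ q : K[X], Ideal.Quotient.mk (maximalIdeal B) (aeval b q) = aeval bb q := by
    intro q
    exact (Polynomial.aeval_algHom_apply (Ideal.Quotient.mkₐ K (maximalIdeal B)) b q).symm
  have h1 : (g.map (algebraMap K B)).eval b ∈ maximalIdeal B := by
    rw [Polynomial.eval_map_algebraMap, ← Ideal.Quotient.eq_zero_iff_mem, hmk]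
    exact minpoly.aeval K bb
  have h2 : IsUnit ((g.map (algebraMap K B)).derivative.eval b) := by
    rw [Polynomial.derivative_map, Polynomial.eval_map_algebraMap]
    by_contra hnu
    have hmem : aeval b (derivative g) ∈ maximalIdeal B := (IsLocalRing.mem_maximalIdeal _).2 hnu
    rw [← Ideal.Quotient.eq_zero_iff_mem, hmk] at hmem
    exact hsep.aeval_derivative_ne_zero (minpoly.aeval K bb) hmem
  obtain ⟨c, hc, hcb⟩ := HenselianLocalRing.is_henselian (g.map (algebraMap K B))
    (hmonic.map _) b h1 h2
  refine ⟨c, ⟨g, hmonic.ne_zero, ?_⟩, ?_⟩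
  · rw [Polynomial.IsRoot.def, Polynomial.eval_map_algebraMap] at hc
    exact hc
  · rw [← neg_sub]
    exact neg_mem hcb

end

/-- Two algebraic elements of a domain over a field congruent modulo a proper ideal are equal. -/
theorem eq_of_isAlgebraic_of_sub_mem (K B : Type*) [Field K] [CommRing B] [IsDomain B]
    [Algebra K B] (M : Ideal B) (hM : M ≠ ⊤) {c c' : B} (hc : IsAlgebraic K c)
    (hc' : IsAlgebraic K c') (h : c - c' ∈ M) : c = c' := by
  by_contra hne
  have hint : IsIntegral K (c - c') :=
    (isAlgebraic_iff_isIntegral.1 hc).sub (isAlgebraic_iff_isIntegral.1 hc')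
  have hu : IsUnit (c - c') := hint.isUnit (sub_ne_zero.2 hne)
  exact hM (Ideal.eq_top_of_isUnit_mem M h hu)

end Groth.Agent.Lib.Helper18.CDVR
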